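import Groth.Agent.ProjTwist.Laurent
import Groth.Agent.RpushLib.Finite
import Groth.Prelude.Def_Twist2

/-!
# Cohomology of twisting sheaves on projective space
-/

set_option autoImplicit false

universe u

open CategoryTheory Opposite TopologicalSpace AlgebraicGeometry
open HomogeneousLocalization
open Groth.Agent.CohBase Groth.Agent.CohBase.PS

noncomputable section

namespace Groth.Agent.ProjTwist

variable (n : ℕ) (R : Type u) [CommRing R]

local notation "Poly" => MvPolynomial (Fin (n + 1)) R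
local notation "𝒜" => CohB1.polyGrading n R

instance isQCoh_twist (d : ℤ) : Coh.IsQCoh (Twist.twist 𝒜 d) := by
  have hcov : ⨆ k : Fin (n + 1), Proj.basicOpen 𝒜 (xPow n R k 1).1 = ⊤ := by
    refine top_le_iff.1 ((top_le_iSup_U n R).trans (iSup_le fun a => le_iSup_of_le a.down ?_))
    show Proj.basicOpen 𝒜 (MvPolynomial.X a.down) ≤ Proj.basicOpen 𝒜 (MvPolynomial.X a.down ^ 1)
    rw [pow_one]
  refine (ProjCoh.twistMulData 𝒜 (fun k => xPow n R k 1) hcov).isQCoh_F ?_ (fun k => ?_) d
  · exact (SheafOfModules.isQuasicoherent (Proj 𝒜).ringCatSheaf).prop_of_iso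
      (@asIso _ _ _ _ (ProjCoh.unitToTwist 𝒜) ProjCoh.isIso_unitToTwist) (isQCoh_structureModule (X := Proj 𝒜))
  · exact Proj.isAffineOpen_basicOpen 𝒜 _ (xPow n R k 1).2 one_pos

/-- An exponent can be selected that is not negative. -/
lemma sel_nonneg' {e : Fin (n + 1) →₀ ℤ} (h : ∃ a, 0 ≤ e a) : 0 ≤ e (sel n e) := by
  rw [sel, dif_pos h]
  exact h.choose_spec

lemma GoodD.add {d : ℤ} {S : Finset (Fin (n + 1))} {x y : Laurent n R} (hx : GoodD n R d S x)
    (hy : GoodD n R d S y) : GoodD n R d S (x + y) := by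
  classical
  intro e he
  rw [AddMonoidAlgebra.coeff_add] at he
  rcases Finset.mem_union.mp (Finsupp.support_add he) with h | h
  · exact hx e h
  · exact hy e h

lemma goodD_proj (d : ℤ) (S : Finset (Fin (n + 1))) (k : Fin (n + 1)) (x : Laurent n R)
    (hx : GoodD n R d (insert k S) x) (hpos : ∀ e ∈ x.coeff.support, ∃ a, 0 ≤ e a) :
    GoodD n R d S (proj n R k x) := by
  classical
  intro e he
  simp only [proj, AddMonoidHom.coe_mk, ZeroHom.coe_mk, AddMonoidAlgebra.coeff_ofCoeff,
    Finsupp.support_filter, Finset.mem_filter] at he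
  obtain ⟨h1, h2⟩ := hx e he.1
  refine ⟨h1, fun a ha => ?_⟩
  by_cases hak : a = k
  · rw [hak, ← he.2]
    exact sel_nonneg' n (hpos e he.1)
  · exact h2 a (by simp [hak, ha])

/-- The section ring as an abelian group of the underlying sheaf. -/
def toΓ (d : ℤ) (V : (Proj 𝒜).Opens) :
    (Coh.toAb (Twist.twist 𝒜 d)).obj.obj (op V) ≃+ Γ(Twist.twist 𝒜 d, V) :=
  AddEquiv.refl _

lemma toΓ_res (d : ℤ) {V W : (Proj 𝒜).Opens} (h : W ≤ V)
    (s : (Coh.toAb (Twist.twist 𝒜 d)).obj.obj (op V)) :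
    toΓ n R d W (res (Coh.toAb (Twist.twist 𝒜 d)).obj h s) =
      (Twist.twist 𝒜 d).presheaf.map (homOfLE h).op (toΓ n R d V s) := rfl

/-- The expansion of the value of a Čech cochain. -/
def Λ (d : ℤ) {k : ℕ} (i : Fin k → ULift.{u} (Fin (n + 1))) :
    (Coh.toAb (Twist.twist 𝒜 d)).obj.obj (op (inter (U n R) i)) →+ Laurent n R :=
  (L n R d (univ_le_inter n R i)).comp (toΓ n R d _).toAddMonoidHom

lemma Λ_res (d : ℤ) {k l : ℕ} (i : Fin k → ULift.{u} (Fin (n + 1))) (σ : Fin l → Fin k)
    (s : (Coh.toAb (Twist.twist 𝒜 d)).obj.obj (op (inter (U n R) (i ∘ σ)))) :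
    Λ n R d i (res _ (inter_comp_le (U n R) i σ) s) = Λ n R d (i ∘ σ) s := by
  change L n R d _ (toΓ n R d _ (res _ _ s)) = _
  rw [toΓ_res, L_res]
  rfl

lemma Λ_injective (d : ℤ) {m : ℕ} (i : Fin (m + 1) → ULift.{u} (Fin (n + 1))) :
    Function.Injective (Λ n R d i) :=
  (L_injective n R d i).comp (toΓ n R d _).injective

lemma goodD_Λ (d : ℤ) {m : ℕ} (i : Fin (m + 1) → ULift.{u} (Fin (n + 1)))
    (s : (Coh.toAb (Twist.twist 𝒜 d)).obj.obj (op (inter (U n R) i))) :
    GoodD n R d (img n i) (Λ n R d i s) :=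
  goodD_L n R d i _

lemma exists_Λ (d : ℤ) {m : ℕ} (i : Fin (m + 1) → ULift.{u} (Fin (n + 1))) (x : Laurent n R)
    (hx : GoodD n R d (img n i) x) : ∃ s, Λ n R d i s = x := by
  obtain ⟨f, hf⟩ := exists_L n R d i x hx
  exact ⟨(toΓ n R d _).symm f, hf⟩

/-- The relation between the values of a cocycle. -/
theorem cocycle_cons (d : ℤ) (m : ℕ)
    (c : CC (U n R) (Coh.toAb (Twist.twist 𝒜 d)).obj m) (hc : cdiff (U n R) _ m c = 0)
    (k : ULift.{u} (Fin (n + 1))) (i : Fin (m + 1) → ULift.{u} (Fin (n + 1))) :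
    ∑ j : Fin (m + 1), (-1 : ℤ) ^ (j : ℕ) •
        Λ n R d (Fin.cons k (i ∘ j.succAbove)) (c (Fin.cons k (i ∘ j.succAbove))) =
      Λ n R d i (c i) := by
  have h := congrArg (Λ n R d (Fin.cons k i)) (congrFun hc (Fin.cons k i))
  rw [cdiff_apply] at h
  simp only [map_sum, map_zsmul, Λ_res, Pi.zero_apply, map_zero] at h
  rw [Fin.sum_univ_succ] at h
  simp only [Fin.val_zero, pow_zero, one_smul, Fin.val_succ, pow_succ, mul_neg, mul_one, neg_smul,
    Finset.sum_neg_distrib, ← sub_eq_add_neg, sub_eq_zero] at h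
  have e0 : (Fin.cons k i : Fin (m + 2) → ULift.{u} (Fin (n + 1))) ∘
      (0 : Fin (m + 2)).succAbove = i := by ext a; simp
  have e1 : ∀ j : Fin (m + 1), (Fin.cons k i : Fin (m + 2) → ULift.{u} (Fin (n + 1))) ∘
      j.succ.succAbove = Fin.cons k (i ∘ j.succAbove) := fun j => by
    funext a
    cases a using Fin.cases with
    | zero => simp [Function.comp]
    | succ a => simp [Function.comp]
  have hcongr : ∀ {a b : Fin (m + 1) → ULift.{u} (Fin (n + 1))}, a = b →
      Λ n R d a (c a) = Λ n R d b (c b) := by rintro a b rfl; rfl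
  rw [hcongr e0] at h
  rw [h]
  exact Finset.sum_congr rfl fun j _ => by rw [hcongr (e1 j)]

/-- A cocycle without totally negative exponents is a coboundary. -/
theorem exists_cdiff_eq (d : ℤ) (m : ℕ)
    (c : CC (U n R) (Coh.toAb (Twist.twist 𝒜 d)).obj (m + 1)) (hc : cdiff (U n R) _ (m + 1) c = 0)
    (hpos : ∀ i, ∀ e ∈ (Λ n R d i (c i)).coeff.support, ∃ a, 0 ≤ e a) :
    ∃ b, cdiff (U n R) _ m b = c := by
  classical
  have hb : ∀ i : Fin (m + 1) → ULift.{u} (Fin (n + 1)),
      GoodD n R d (img n i) (∑ k, proj n R k (Λ n R d _ (c (Fin.cons (ULift.up k) i)))) := by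
    intro i
    refine Finset.sum_induction _ (GoodD n R d (img n i)) (fun _ _ => GoodD.add n R)
      (fun e he => by simp at he) fun k _ => goodD_proj n R d _ k _ ?_ (hpos _)
    intro e he
    refine ⟨(goodD_Λ n R d _ _ e he).1, fun a ha => (goodD_Λ n R d _ _ e he).2 a fun h => ha ?_⟩
    obtain ⟨t, -, rfl⟩ := Finset.mem_image.mp h
    cases t using Fin.cases with
    | zero => simp
    | succ t => simpa using Or.inr ⟨t, rfl⟩
  choose b hb' using fun i => exists_Λ n R d i _ (hb i)
  refine ⟨b, funext fun i => Λ_injective n R d i ?_⟩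
  rw [cdiff_apply]
  simp only [map_sum, map_zsmul, Λ_res, hb', Finset.smul_sum]
  rw [Finset.sum_comm]
  simp only [← map_zsmul (proj n R _)]
  simp only [← map_sum, cocycle_cons n R d (m + 1) c hc]
  exact sum_proj n R _

/-- The Čech complex of `O(d)` is exact in positive degree, unless it is the top one. -/
theorem cexact_twist (d : ℤ) (m : ℕ) (h : -((n : ℤ) + 1) < d ∨ m + 1 < n) :
    CExact (U n R) (Coh.toAb (Twist.twist 𝒜 d)).obj m := by
  intro c hc
  refine exists_cdiff_eq n R d m c hc fun i e he => ?_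
  have hgood := goodD_Λ n R d i (c i) e he
  rcases h with h | h
  · by_contra hneg
    push_neg at hneg
    have h1 : (∑ a, e a) ≤ ∑ _a : Fin (n + 1), (-1 : ℤ) :=
      Finset.sum_le_sum fun a _ => by have := hneg a; omega
    rw [hgood.1] at h1
    simp at h1
    omega
  · have hcard : (img n i).card < (Finset.univ : Finset (Fin (n + 1))).card := by
      refine lt_of_le_of_lt Finset.card_image_le ?_
      simp
      omega
    obtain ⟨a, -, ha⟩ := Finset.exists_mem_notMem_of_card_lt_card hcard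
    exact ⟨a, hgood.2 a ha⟩

/-- Vanishing in positive degree, other than the top one for very negative twists. -/
theorem subsingleton_HH_pos (d : ℤ) (m : ℕ) (h : -((n : ℤ) + 1) < d ∨ m + 1 ≠ n) :
    Subsingleton (Coh.HH (Proj 𝒜) (Twist.twist 𝒜 d) (m + 1)) := by
  by_cases hm : n < m + 1
  · exact vanishing_gt n R (Twist.twist 𝒜 d) (m + 1) hm
  have haff : ∀ (k : ℕ) (i : Fin (k + 1) → ULift.{u} (Fin (n + 1))),
      IsAffineOpen (inter (U n R) i) := fun k i => by
    rw [inter_U]
    exact Proj.isAffineOpen_basicOpen 𝒜 _ (prodX_mem n R _) (img_nonempty n i).card_pos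
  obtain ⟨e⟩ := cechH_iso (U n R) (top_le_iSup_U n R)
    (acyclic_of_affine (Twist.twist 𝒜 d) (U n R) haff) (m + 1)
  haveI := AddCommGrpCat.subsingleton_of_isZero
    ((isZero_homology_iff _ _ m).mpr (cexact_twist n R d m (by omega)))
  exact e.symm.toEquiv.subsingleton

/-- A global section is determined by its expansion. -/
theorem L_top_injective (d : ℤ) : Function.Injective (L n R d (le_top : cell n R ≤ ⊤)) := by
  intro f g hfg
  refine sect_ext fun x => ?_
  obtain ⟨a, hxa⟩ := Opens.mem_iSup.1 (top_le_iSup_U n R x.2)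
  let i : Fin 1 → ULift.{u} (Fin (n + 1)) := fun _ => a
  have hxi : x.1 ∈ inter (U n R) i := (mem_inter_iff _).2 fun _ => hxa
  have hres : (Twist.twist 𝒜 d).presheaf.map (homOfLE (le_top : inter (U n R) i ≤ ⊤)).op f =
      (Twist.twist 𝒜 d).presheaf.map (homOfLE (le_top : inter (U n R) i ≤ ⊤)).op g := by
    refine L_injective n R d i ?_
    rw [L_res, L_res]
    exact hfg
  have := congrArg (fun s => valAt s ⟨x.1, hxi⟩) hres
  simpa only [valAt_res] using this

/-- The expansion of a global section. -/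
theorem goodD_L_top (d : ℤ) (k : Fin (n + 1)) (f : Γ(Twist.twist 𝒜 d, ⊤)) :
    GoodD n R d {k} (L n R d (le_top : cell n R ≤ ⊤) f) := by
  classical
  let i : Fin 1 → ULift.{u} (Fin (n + 1)) := fun _ => ULift.up k
  have h := goodD_L n R d i ((Twist.twist 𝒜 d).presheaf.map (homOfLE le_top).op f)
  rw [L_res] at h
  have : img n i = {k} := by ext a; simp [i, eq_comm]
  rwa [this] at h

/-- Negative twists have no sections when the dimension is positive. -/
theorem subsingleton_sections (d : ℤ) (hd : d < 0) (hn : 0 < n) :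
    Subsingleton Γ(Twist.twist 𝒜 d, ⊤) := by
  refine ⟨fun f g => L_top_injective n R d ?_⟩
  suffices ∀ f, L n R d (le_top : cell n R ≤ ⊤) f = 0 by rw [this, this]
  intro f
  apply AddMonoidAlgebra.coeff_injective
  ext e
  by_contra he
  have hmem : e ∈ (L n R d (le_top : cell n R ≤ ⊤) f).coeff.support :=
    Finsupp.mem_support_iff.2 (by simpa using he)
  haveI : Nontrivial (Fin (n + 1)) := Fin.nontrivial_iff_two_le.2 (by omega)
  have hall : ∀ a, 0 ≤ e a := fun a => by
    obtain ⟨k, hk⟩ := exists_ne a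
    exact (goodD_L_top n R d k f e hmem).2 a (by simpa using hk.symm)
  have := (goodD_L_top n R d 0 f e hmem).1
  have := Finset.sum_nonneg fun a (_ : a ∈ Finset.univ) => hall a
  omega

/-- Cohomology of `O(d)` outside the two exceptional degrees. -/
theorem subsingleton_HH (d : ℤ) (q : ℕ) (h₀ : ¬ (q = 0 ∧ 0 ≤ d))
    (hn : ¬ (q = n ∧ d ≤ -((n : ℤ) + 1))) :
    Subsingleton (Coh.HH (Proj 𝒜) (Twist.twist 𝒜 d) q) := by
  cases q with
  | zero =>
    haveI := subsingleton_sections n R d (by omega) (by omega)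
    exact (RpushLib.h0Γ (Twist.twist 𝒜 d)).symm.toEquiv.subsingleton
  | succ m =>
    exact subsingleton_HH_pos n R d m (by omega)

end Groth.Agent.ProjTwist
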