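import Groth.Agent.ProjCoh.Twist

/-!
# Multiplication of sections of twisting sheaves by homogeneous fractions
-/

set_option autoImplicit false

universe u

open CategoryTheory TopologicalSpace AlgebraicGeometry Opposite
open HomogeneousLocalization

noncomputable section

namespace Groth.Agent.ProjTwist

variable {R A : Type u} [CommRing R] [CommRing A] [Algebra R A] {𝒜 : ℕ → Submodule R A} [GradedAlgebra 𝒜]

lemma mkMul_mem {i j : ℕ} (a : 𝒜 i) (s : 𝒜 j) {d d' : ℤ} (h : (i : ℤ) + d = j + d')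
    {x : ProjectiveSpectrum 𝒜} (hs : s.1 ∉ x.asHomogeneousIdeal) {q : Twist.Loc 𝒜 x}
    (hq : q ∈ Twist.twistAt 𝒜 d x) :
    Localization.mk a.1 ⟨s.1, hs⟩ * q ∈ Twist.twistAt 𝒜 d' x := by
  induction hq using Submodule.span_induction with
  | mem q hq =>
    obtain ⟨k, l, b, t, ht, he, rfl⟩ := hq
    refine Submodule.subset_span ⟨i + k, j + l, ⟨a.1 * b.1, SetLike.mul_mem_graded a.2 b.2⟩,
      ⟨s.1 * t.1, SetLike.mul_mem_graded s.2 t.2⟩,
      fun hm => (x.isPrime.mem_or_mem hm).elim hs ht, by push_cast; omega, ?_⟩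
    rw [Localization.mk_mul]
    rfl
  | zero => simp
  | add p q _ _ hp hq => rw [mul_add]; exact add_mem hp hq
  | smul c q _ hq =>
    rw [show Localization.mk a.1 ⟨s.1, hs⟩ * (c • q) = c • (Localization.mk a.1 ⟨s.1, hs⟩ * q) by
      rw [Algebra.smul_def, Algebra.smul_def, mul_left_comm]]
    exact Submodule.smul_mem _ _ hq

/-- Multiplication of a section by a fraction. -/
def mulFracSect {i j : ℕ} (a : 𝒜 i) (s : 𝒜 j) (d d' : ℤ) (h : (i : ℤ) + d = j + d')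
    {V : (Proj 𝒜).Opens} (hV : V ≤ Proj.basicOpen 𝒜 s.1) (f : Twist.sectN (𝒜 := 𝒜) d (op V)) :
    Twist.sectN (𝒜 := 𝒜) d' (op V) :=
  ⟨fun x => ⟨Localization.mk a.1 ⟨s.1, hV x.2⟩ * (f.1 x).1, mkMul_mem a s h (hV x.2) (f.1 x).2⟩,
    fun x => by
      obtain ⟨W, hW, iW, k, l, b, t, nin, hc, hw⟩ := f.2 x
      refine ⟨W, hW, iW, i + k, j + l, ⟨a.1 * b.1, SetLike.mul_mem_graded a.2 b.2⟩,
        ⟨s.1 * t.1, SetLike.mul_mem_graded s.2 t.2⟩,
        fun y hm => (y.1.isPrime.mem_or_mem hm).elim (hV (iW y).2) (nin y), ?_, fun y => ?_⟩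
      · rcases hc with hc | hc
        · exact Or.inl (by push_cast; omega)
        · exact Or.inr (show a.1 * b.1 = 0 by rw [hc, mul_zero])
      · show Localization.mk a.1 _ * (f.1 (iW y)).1 = _
        rw [hw y, Localization.mk_mul]
        rfl⟩

variable (𝒜) in
/-- Multiplication of sections by a fraction, additively. -/
def mulFrac {i j : ℕ} (a : 𝒜 i) (s : 𝒜 j) (d d' : ℤ) (h : (i : ℤ) + d = j + d')
    {V : (Proj 𝒜).Opens} (hV : V ≤ Proj.basicOpen 𝒜 s.1) :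
    Γ(Twist.twist 𝒜 d, V) →+ Γ(Twist.twist 𝒜 d', V) where
  toFun := mulFracSect a s d d' h hV
  map_zero' := Subtype.ext (funext fun x => Subtype.ext (mul_zero _))
  map_add' f g := Subtype.ext (funext fun x => Subtype.ext (mul_add _ _ _))

/-- The value of a section at a point. -/
abbrev valAt {d : ℤ} {V : (Proj 𝒜).Opens} (f : Γ(Twist.twist 𝒜 d, V)) (x : V) : Twist.Loc 𝒜 x.1 :=
  ((f : Twist.sectN (𝒜 := 𝒜) d (op V)).1 x).1

lemma sect_ext {d : ℤ} {V : (Proj 𝒜).Opens} {f g : Γ(Twist.twist 𝒜 d, V)}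
    (h : ∀ x : V, valAt f x = valAt g x) : f = g :=
  Subtype.ext (funext fun x => Subtype.ext (h x))

lemma valAt_mulFrac {i j : ℕ} (a : 𝒜 i) (s : 𝒜 j) (d d' : ℤ) (h : (i : ℤ) + d = j + d')
    {V : (Proj 𝒜).Opens} (hV : V ≤ Proj.basicOpen 𝒜 s.1) (f : Γ(Twist.twist 𝒜 d, V)) (x : V) :
    valAt (mulFrac 𝒜 a s d d' h hV f) x = Localization.mk a.1 ⟨s.1, hV x.2⟩ * valAt f x := rfl

lemma valAt_res {d : ℤ} {V W : (Proj 𝒜).Opens} (hW : W ≤ V) (f : Γ(Twist.twist 𝒜 d, V)) (x : W) :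
    valAt ((Twist.twist 𝒜 d).presheaf.map (homOfLE hW).op f) x = valAt f ⟨x.1, hW x.2⟩ := rfl

lemma mulFrac_res {i j : ℕ} (a : 𝒜 i) (s : 𝒜 j) (d d' : ℤ) (h : (i : ℤ) + d = j + d')
    {V W : (Proj 𝒜).Opens} (hV : V ≤ Proj.basicOpen 𝒜 s.1) (hW : W ≤ V)
    (f : Γ(Twist.twist 𝒜 d, V)) :
    mulFrac 𝒜 a s d d' h (hW.trans hV) ((Twist.twist 𝒜 d).presheaf.map (homOfLE hW).op f) =
      (Twist.twist 𝒜 d').presheaf.map (homOfLE hW).op (mulFrac 𝒜 a s d d' h hV f) := rfl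

variable (𝒜) in
/-- The function defined by a fraction of degree zero. -/
def fracSec {i : ℕ} (a s : 𝒜 i) {V : (Proj 𝒜).Opens} (hV : V ≤ Proj.basicOpen 𝒜 s.1) :
    Γ(Proj 𝒜, V) :=
  ⟨fun x => HomogeneousLocalization.mk ⟨i, a, s, hV x.2⟩, fun x =>
    ⟨V, x.2, 𝟙 _, i, a, s, fun y => hV y.2, fun _ => rfl⟩⟩

lemma valAt_smul {d : ℤ} {V : (Proj 𝒜).Opens} (c : Γ(Proj 𝒜, V)) (f : Γ(Twist.twist 𝒜 d, V)) (x : V) :
    valAt (c • f) x = ((c : Twist.O (𝒜 := 𝒜) (op V)).1 x).val * valAt f x :=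
  Twist.coe_smul_val d x.1 _ _

lemma valAt_fracSec_smul {i : ℕ} (a s : 𝒜 i) {d : ℤ} {V : (Proj 𝒜).Opens}
    (hV : V ≤ Proj.basicOpen 𝒜 s.1) (f : Γ(Twist.twist 𝒜 d, V)) (x : V) :
    valAt (fracSec 𝒜 a s hV • f) x = Localization.mk a.1 ⟨s.1, hV x.2⟩ * valAt f x :=
  (valAt_smul _ f x).trans (congrArg (· * valAt f x) (val_mk _))

/-- Multiplication by a fraction whose inverse exists is bijective. -/
theorem mulFrac_bijective {i j : ℕ} (a : 𝒜 i) (s : 𝒜 j) (d d' : ℤ) (h : (i : ℤ) + d = j + d')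
    {V : (Proj 𝒜).Opens} (hV : V ≤ Proj.basicOpen 𝒜 s.1) (hV' : V ≤ Proj.basicOpen 𝒜 a.1) :
    Function.Bijective (mulFrac 𝒜 a s d d' h hV) := by
  have inv : ∀ x : V, Localization.mk a.1 ⟨s.1, hV x.2⟩ * Localization.mk s.1 ⟨a.1, hV' x.2⟩ =
      (1 : Twist.Loc 𝒜 x.1) := fun x => by
    rw [Localization.mk_mul]
    refine (Localization.mk_eq_mk_iff.2 (Localization.r_iff_exists.2 ⟨1, ?_⟩)).trans Localization.mk_one
    simp [mul_comm]
  refine ⟨fun f g hfg => sect_ext fun x => ?_, fun g => ⟨mulFrac 𝒜 s a d' d h.symm hV' g, sect_ext fun x => ?_⟩⟩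
  · have := congrArg (fun f => valAt f x) hfg
    simp only [valAt_mulFrac] at this
    exact (IsUnit.of_mul_eq_one _ (inv x)).mul_left_cancel this
  · rw [valAt_mulFrac, valAt_mulFrac, ← mul_assoc, inv x, one_mul]

end Groth.Agent.ProjTwist
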