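import Groth.Agent.ProjTwist.Zero
import Groth.Agent.CohBase.Natural
import Mathlib.LinearAlgebra.Matrix.ToLinearEquiv
import Mathlib.LinearAlgebra.Matrix.Determinant.Basic

/-!
# Top cohomology of twisting sheaves on projective space
-/

set_option autoImplicit false

universe u

open CategoryTheory Opposite TopologicalSpace AlgebraicGeometry
open HomogeneousLocalization
open Groth.Agent.CohBase Groth.Agent.CohBase.PS

noncomputable section

namespace Groth.Agent.ProjTwist

variable (n : ℕ) (R : Type u) [CommRing R]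

local notation "Poly" => MvPolynomial (Fin (n + 1)) R
local notation "𝒜" => CohB1.polyGrading n R

/-- The tuple of all the variables. -/
def idT : Fin (n + 1) → ULift.{u} (Fin (n + 1)) := ULift.up

/-- The incidence matrix of a tuple. -/
def incid (i : Fin (n + 1) → ULift.{u} (Fin (n + 1))) : Matrix (Fin (n + 1)) (Fin (n + 1)) ℤ :=
  fun a t => if (i a).down = t then 1 else 0

lemma det_idT : (incid n (idT.{u} n)).det = 1 := by
  have : incid n (idT.{u} n) = 1 := by
    ext a t
    simp [incid, idT, Matrix.one_apply]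
  rw [this, Matrix.det_one]

lemma img_eq_univ_of_det_ne_zero {i : Fin (n + 1) → ULift.{u} (Fin (n + 1))} (h : (incid n i).det ≠ 0) :
    img n i = Finset.univ := by
  refine Finset.eq_univ_iff_forall.2 fun t => ?_
  by_contra ht
  refine h (Matrix.det_eq_zero_of_column_eq_zero t fun a => ?_)
  simp only [incid, ite_eq_right_iff, one_ne_zero, imp_false]
  exact fun e => ht (e ▸ Finset.mem_image_of_mem _ (Finset.mem_univ a))

/-- The alternating sum of the minors of a tuple vanishes. -/
theorem sum_det_eq_zero (i : Fin (n + 1 + 1) → ULift.{u} (Fin (n + 1))) :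
    ∑ j : Fin (n + 1 + 1), (-1 : ℤ) ^ (j : ℕ) * (incid n (i ∘ j.succAbove)).det = 0 := by
  let A : Matrix (Fin (n + 1).succ) (Fin (n + 1).succ) ℤ := fun a b =>
    Fin.cases (motive := fun _ => ℤ) 1 (fun t => if (i a).down = t then 1 else 0) b
  have h0 : A.det = 0 := by
    refine Matrix.exists_mulVec_eq_zero_iff.1
      ⟨fun b => Fin.cases (motive := fun _ => ℤ) 1 (fun _ => -1) b, fun h => ?_, funext fun a => ?_⟩
    · simpa using congrFun h 0
    · simp only [Matrix.mulVec, dotProduct, Pi.zero_apply]
      rw [Fin.sum_univ_succ]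
      simp [A]
  rw [← h0, Matrix.det_succ_column_zero]
  refine Finset.sum_congr rfl fun j _ => ?_
  have e : A.submatrix j.succAbove Fin.succ = incid n (i ∘ j.succAbove) := by
    ext a t
    simp [A, incid]
  rw [e]
  simp [A]

/-- Inverting all the variables. -/
def invVar : Laurent n R →+* Laurent n R :=
  AddMonoidAlgebra.mapDomainRingHom R (-(AddMonoidHom.id (Fin (n + 1) →₀ ℤ)))

lemma invVar_single (e : Fin (n + 1) →₀ ℤ) (r : R) :
    invVar n R (AddMonoidAlgebra.single e r) = AddMonoidAlgebra.single (-e) r :=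
  AddMonoidAlgebra.mapDomain_single

/-- The exponent with all entries `-1`. -/
def negOnes : Fin (n + 1) →₀ ℤ := -expInt n (expS n Finset.univ)

lemma negOnes_apply (a : Fin (n + 1)) : negOnes n a = -1 := by
  simp [negOnes, expInt_apply, expS_apply]

/-- A form as a class of totally negative Laurent monomials. -/
def topX : Poly →+ Laurent n R :=
  (AddMonoidHom.mulLeft (mon n R (negOnes n))).comp
    ((invVar n R).toAddMonoidHom.comp (toLaurent n R).toAddMonoidHom)

lemma topX_monomial (δ : Fin (n + 1) →₀ ℕ) (r : R) :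
    topX n R (MvPolynomial.monomial δ r) = AddMonoidAlgebra.single (negOnes n - expInt n δ) r := by
  show mon n R (negOnes n) * invVar n R (toLaurent n R (MvPolynomial.monomial δ r)) = _
  rw [toLaurent_monomial, invVar_single, mon, AddMonoidAlgebra.single_mul_single, one_mul,
    sub_eq_add_neg]

lemma topX_injective : Function.Injective (topX n R) := by
  intro p q h
  have h1 := (isUnit_mon n R (negOnes n)).mul_left_cancel h
  exact toLaurent_injective n R
    (AddMonoidAlgebra.mapDomain_injective (f := ⇑(-(AddMonoidHom.id (Fin (n + 1) →₀ ℤ))))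
      neg_injective h1)

lemma topX_smul (r : R) (p : Poly) :
    topX n R (r • p) = AddMonoidAlgebra.single 0 r * topX n R p := by
  show mon n R (negOnes n) * invVar n R (toLaurent n R (r • p)) = _ * (mon n R (negOnes n) * _)
  rw [MvPolynomial.smul_eq_C_mul, map_mul, ← MvPolynomial.monomial_zero', toLaurent_monomial, map_zero,
    map_mul, invVar_single, neg_zero, mul_left_comm]
  rfl

lemma support_topX {k : ℕ} (p : 𝒜 k) {e : Fin (n + 1) →₀ ℤ}
    (he : e ∈ (topX n R p.1).coeff.support) :
    (∑ a, e a) = -((n : ℤ) + 1 + k) ∧ ∀ a, e a < 0 := by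
  classical
  rw [← MvPolynomial.support_sum_monomial_coeff p.1, map_sum, AddMonoidAlgebra.coeff_sum] at he
  obtain ⟨δ, hδ, he⟩ := Finset.mem_biUnion.mp (Finsupp.support_finsetSum he)
  rw [topX_monomial, AddMonoidAlgebra.coeff_single] at he
  obtain rfl := Finset.mem_singleton.mp (Finsupp.support_single_subset he)
  have hp : p.1.IsHomogeneous k := p.2
  have hd : (∑ a, δ a) = k := by
    rw [← Finsupp.degree_eq_sum, Finsupp.degree_eq_weight_one]
    exact hp (MvPolynomial.mem_support_iff.1 hδ)
  refine ⟨?_, fun a => ?_⟩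
  · simp only [Finsupp.coe_sub, Pi.sub_apply, negOnes_apply, expInt_apply, Finset.sum_sub_distrib,
      ← Nat.cast_sum, hd]
    simp
    omega
  · simp only [Finsupp.coe_sub, Pi.sub_apply, negOnes_apply, expInt_apply]
    omega

lemma exists_topX {k : ℕ} (x : Laurent n R)
    (hx : ∀ e ∈ x.coeff.support, (∑ a, e a) = -((n : ℤ) + 1 + k) ∧ ∀ a, e a < 0) :
    ∃ p : 𝒜 k, topX n R p.1 = x := by
  classical
  let dd : (Fin (n + 1) →₀ ℤ) → (Fin (n + 1) →₀ ℕ) := fun e =>
    Finsupp.equivFunOnFinite.symm fun a => (-1 - e a).toNat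
  have hdd : ∀ e ∈ x.coeff.support, negOnes n - expInt n (dd e) = e := fun e he => by
    ext a
    have := (hx e he).2 a
    simp only [Finsupp.coe_sub, Pi.sub_apply, negOnes_apply, expInt_apply, dd,
      Finsupp.equivFunOnFinite_symm_apply_apply]
    omega
  refine ⟨⟨∑ e ∈ x.coeff.support, MvPolynomial.monomial (dd e) (x.coeff e),
    Submodule.sum_mem _ fun e he => MvPolynomial.isHomogeneous_monomial _ ?_⟩, ?_⟩
  · rw [Finsupp.degree_eq_sum]
    have h1 : ∀ a, ((dd e a : ℕ) : ℤ) = -1 - e a := fun a => by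
      have := congr($(hdd e he) a)
      simp only [Finsupp.coe_sub, Pi.sub_apply, negOnes_apply, expInt_apply] at this
      omega
    have h2 : (∑ a, ((dd e a : ℕ) : ℤ)) = (k : ℤ) := by
      simp only [h1, Finset.sum_sub_distrib, (hx e he).1]
      simp
    exact_mod_cast h2
  · rw [map_sum, Finset.sum_congr rfl fun e he => by rw [topX_monomial, hdd e he]]
    exact AddMonoidAlgebra.sum_coeff_single x

/-- The part with totally negative exponents. -/
def negP : Laurent n R →+ Laurent n R where
  toFun x := AddMonoidAlgebra.ofCoeff (x.coeff.filter fun e => ∀ a, e a < 0)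
  map_zero' := by simp [Finsupp.filter_zero]
  map_add' x y := by simp [Finsupp.filter_add]

lemma negP_eq_zero_iff (x : Laurent n R) :
    negP n R x = 0 ↔ ∀ e ∈ x.coeff.support, ∃ a, 0 ≤ e a := by
  classical
  constructor
  · intro h e he
    by_contra hneg
    push_neg at hneg
    have := congrArg (fun y : Laurent n R => y.coeff e) h
    simp [negP, Finsupp.filter_apply, hneg] at this
    exact Finsupp.mem_support_iff.1 he this
  · intro h
    apply AddMonoidAlgebra.coeff_injective
    ext e
    simp only [negP, AddMonoidHom.coe_mk, ZeroHom.coe_mk, AddMonoidAlgebra.coeff_ofCoeff,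
      Finsupp.filter_apply, AddMonoidAlgebra.coeff_zero, Finsupp.coe_zero, Pi.zero_apply]
    split_ifs with hn
    · by_contra hne
      obtain ⟨a, ha⟩ := h e (Finsupp.mem_support_iff.2 hne)
      exact absurd (hn a) (not_lt.2 ha)
    · rfl

lemma negP_of_all_neg {x : Laurent n R} (hx : ∀ e ∈ x.coeff.support, ∀ a, e a < 0) :
    negP n R x = x := by
  classical
  apply AddMonoidAlgebra.coeff_injective
  show x.coeff.filter _ = x.coeff
  exact (Finsupp.filter_eq_self_iff _ _).2 fun e he => hx e (Finsupp.mem_support_iff.2 he)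

lemma negP_eq_zero_of_img {d : ℤ} {S : Finset (Fin (n + 1))} (hS : S ≠ Finset.univ) {x : Laurent n R}
    (hx : GoodD n R d S x) : negP n R x = 0 := by
  rw [negP_eq_zero_iff]
  intro e he
  obtain ⟨a, ha⟩ : ∃ a, a ∉ S := by
    by_contra h
    push_neg at h
    exact hS (Finset.eq_univ_iff_forall.2 h)
  exact ⟨a, (hx e he).2 a ha⟩

/-- A cocycle with vanishing negative part at the standard tuple has none at any tuple. -/
theorem negP_eq_zero_all (d : ℤ)
    (c : CC (U n R) (Coh.toAb (Twist.twist 𝒜 d)).obj n) (hc : cdiff (U n R) _ n c = 0)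
    (h0 : negP n R (Λ n R d _ (c (idT n))) = 0) (i : Fin (n + 1) → ULift.{u} (Fin (n + 1))) :
    negP n R (Λ n R d i (c i)) = 0 := by
  classical
  by_cases hinj : Function.Injective i
  swap
  · refine negP_eq_zero_of_img n R (fun hu => hinj ?_) (goodD_Λ n R d i _)
    have hsurj : Function.Surjective fun a => (i a).down := fun t => by
      have : t ∈ img n i := hu ▸ Finset.mem_univ t
      obtain ⟨a, -, ha⟩ := Finset.mem_image.1 this
      exact ⟨a, ha⟩
    intro a b e
    exact (Finite.injective_iff_surjective.2 hsurj) (congrArg ULift.down e)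
  have key : ∀ m ≤ n + 1, ∃ σ : Fin (n + 1) → ULift.{u} (Fin (n + 1)), Function.Injective σ ∧
      negP n R (Λ n R d σ (c σ)) = 0 ∧
        ∀ (a : ℕ) (ha : a < m) (h1 : a < n + 1) (h2 : n + 1 - m + a < n + 1),
          σ ⟨a, h1⟩ = i ⟨n + 1 - m + a, h2⟩ := by
    intro m hm
    induction m with
    | zero => exact ⟨idT n, fun a b e => congrArg ULift.down e, h0, fun a ha => by omega⟩
    | succ m ih =>
      obtain ⟨σ, hσ, hσ0, hσm⟩ := ih (by omega)
      let k := i ⟨n + 1 - (m + 1), by omega⟩
      have hsurj : Function.Surjective fun a => (σ a).down :=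
        Finite.injective_iff_surjective.1 fun a b e => hσ (ULift.ext _ _ e)
      obtain ⟨j, hj⟩ := hsurj k.down
      have hj' : σ j = k := ULift.ext _ _ hj
      have hjm : m ≤ (j : ℕ) := by
        by_contra hlt
        push_neg at hlt
        have h1 := hσm j hlt j.2 (by omega)
        rw [Fin.eta, hj'] at h1
        have h2 := Fin.mk.inj_iff.1 (hinj h1)
        omega
      refine ⟨Fin.cons k (σ ∘ j.succAbove), ?_, ?_, ?_⟩
      · rw [Fin.cons_injective_iff]
        refine ⟨?_, hσ.comp Fin.succAbove_right_injective⟩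
        rintro ⟨a, ha⟩
        exact Fin.succAbove_ne j a (hσ (ha.trans hj'.symm))
      · have h := congrArg (negP n R) (cocycle_cons n R d n c hc k σ)
        rw [hσ0, map_sum, Finset.sum_eq_single j] at h
        · rcases neg_one_pow_eq_or ℤ (j : ℕ) with h' | h' <;>
            simpa [h', map_zsmul] using h
        · intro j' _ hne
          rw [map_zsmul, negP_eq_zero_of_img n R ?_ (goodD_Λ n R d _ _), smul_zero]
          intro hu
          have hmem : (σ j').down ∈ img n (Fin.cons k (σ ∘ j'.succAbove)) := hu ▸ Finset.mem_univ _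
          obtain ⟨a, -, ha⟩ := Finset.mem_image.1 hmem
          cases a using Fin.cases with
          | zero => exact hne (hσ ((ULift.ext _ _ (by simpa using ha.symm)).trans hj'.symm))
          | succ a =>
            exact Fin.succAbove_ne j' a (hσ (ULift.ext _ _ (by simpa using ha)))
        · simp
      · intro a ha h1 h2
        rcases a with _ | a
        · rfl
        · have h3 : a < n := by omega
          show (Fin.cons k (σ ∘ j.succAbove) : Fin (n + 1) → _) (Fin.succ ⟨a, h3⟩) = _
          rw [Fin.cons_succ, Function.comp_apply,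
            Fin.succAbove_of_castSucc_lt _ _ (by rw [Fin.lt_def]; simp; omega)]
          refine (hσm a (by omega) (by omega) (by omega)).trans (congrArg i (Fin.ext ?_))
          show n + 1 - m + a = n + 1 - (m + 1) + (a + 1)
          omega
  obtain ⟨σ, -, hσ0, hσ⟩ := key (n + 1) le_rfl
  have hi : σ = i := funext fun a => by
    have := hσ a a.2 a.2 (by omega)
    rw [Fin.eta] at this
    exact this.trans (congrArg i (Fin.ext (by simp)))
  rwa [hi] at hσ0

/-- A cocycle with vanishing negative part is a coboundary. -/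
theorem mem_Bc_of_negP {k : ℕ}
    (c : CC (U n R) (Coh.toAb (Twist.twist 𝒜 (-((n : ℤ) + 1 + k)))).obj n)
    (hc : cdiff (U n R) _ n c = 0) (h : ∀ i, negP n R (Λ n R _ i (c i)) = 0) :
    c ∈ Bc (U n R) (Coh.toAb (Twist.twist 𝒜 (-((n : ℤ) + 1 + k)))).obj n := by
  cases n with
  | zero =>
    show c = 0
    refine funext fun i => Λ_injective 0 R _ i ?_
    rw [Pi.zero_apply, map_zero, ← h i, negP_of_all_neg 0 R fun e he a => ?_]
    have h1 := (goodD_Λ 0 R _ i (c i) e he).1
    simp at h1
    obtain rfl : a = 0 := Fin.ext (by omega)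
    omega
  | succ m =>
    obtain ⟨b, hb⟩ := exists_cdiff_eq (m + 1) R _ m c hc fun i => (negP_eq_zero_iff (m + 1) R _).1 (h i)
    exact ⟨b, hb⟩

theorem negP_of_mem_Bc {d : ℤ} {c : CC (U n R) (Coh.toAb (Twist.twist 𝒜 d)).obj n}
    (hc : c ∈ Bc (U n R) (Coh.toAb (Twist.twist 𝒜 d)).obj n) :
    negP n R (Λ n R d _ (c (idT n))) = 0 := by
  cases n with
  | zero =>
    have hc' : c = 0 := hc
    rw [hc', Pi.zero_apply, map_zero, map_zero]
  | succ m =>
    obtain ⟨b, rfl⟩ := hc
    rw [cdiff_apply]
    simp only [map_sum, map_zsmul, Λ_res]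
    refine Finset.sum_eq_zero fun j _ => ?_
    rw [negP_eq_zero_of_img (m + 1) R ?_ (goodD_Λ (m + 1) R d _ _), smul_zero]
    intro hu
    have hmem : j ∈ img (m + 1) (idT.{u} (m + 1) ∘ j.succAbove) := hu ▸ Finset.mem_univ _
    obtain ⟨a, -, ha⟩ := Finset.mem_image.1 hmem
    exact Fin.succAbove_ne j a ha

lemma Λ_smulAb (d : ℤ) {m : ℕ} (i : Fin (m + 1) → ULift.{u} (Fin (n + 1))) (r : R)
    (s : (Coh.toAb (Twist.twist 𝒜 d)).obj.obj (op (inter (U n R) i))) :
    Λ n R d i ((Coh.smulAb (Twist.twist 𝒜 d) (ProjCoh.projφ 𝒜 r)).hom.app (op (inter (U n R) i)) s) =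
      AddMonoidAlgebra.single 0 r * Λ n R d i s := by
  rw [← secHom_projφ n R (univ_le_inter n R i) r]
  exact L_smul n R d (univ_le_inter n R i) _ _

/-- The top cohomology of a negative twist. -/
theorem nonempty_top (k : ℕ) :
    Nonempty (Coh.HH (CohB1.ProjSpace n R) (Twist.twistProjSpace n R (-((n : ℤ) + 1 + k))) n ≃ₗ[R]
      ↥(MvPolynomial.homogeneousSubmodule (Fin (n + 1)) R k)) := by
  classical
  set d : ℤ := -((n : ℤ) + 1 + k) with hd
  have hgood : ∀ (p : 𝒜 k) i, GoodD n R d (img n i) ((incid n i).det • topX n R p.1) := by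
    intro p i e he
    by_cases h : (incid n i).det = 0
    · rw [h, zero_smul] at he
      simp at he
    · have he' : e ∈ (topX n R p.1).coeff.support := by
        rw [Finsupp.mem_support_iff] at he ⊢
        intro h0
        exact he (by rw [AddMonoidAlgebra.coeff_smul, Finsupp.smul_apply, h0, smul_zero])
      rw [img_eq_univ_of_det_ne_zero n h]
      exact ⟨(support_topX n R p he').1, fun a ha => absurd (Finset.mem_univ a) ha⟩
  choose z hz using fun p i => exists_Λ n R d i _ (hgood p i)
  have hzc : ∀ p, cdiff (U n R) _ n (z p) = 0 := fun p => funext fun i => by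
    refine Λ_injective n R d i ?_
    rw [cdiff_apply]
    simp only [map_sum, map_zsmul, Λ_res, hz, Pi.zero_apply, map_zero, smul_smul, ← Finset.sum_smul,
      sum_det_eq_zero, zero_smul]
  have hzid : ∀ p, Λ n R d _ (z p (idT n)) = topX n R p.1 := fun p => by rw [hz, det_idT, one_smul]
  have haff : ∀ (l : ℕ) (i : Fin (l + 1) → ULift.{u} (Fin (n + 1))),
      IsAffineOpen (inter (U n R) i) := fun l i => by
    rw [inter_U]
    exact Proj.isAffineOpen_basicOpen 𝒜 _ (prodX_mem n R _) (img_nonempty n i).card_pos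
  obtain ⟨Φ, hΦs, hΦk, hΦn⟩ := hasComparisonNat (U n R) (top_le_iSup_U n R)
    (acyclic_of_affine (Twist.twist 𝒜 d) (U n R) haff) n
  let e := HHEquiv (Twist.twist 𝒜 d) n
  let g : ↥(𝒜 k) →ₗ[R] Coh.HH (CohB1.ProjSpace n R) (Twist.twistProjSpace n R d) n :=
    { toFun := fun p => e.symm (Φ ⟨z p, hzc p⟩)
      map_add' := fun p q => by
        have hadd : (⟨z (p + q), hzc (p + q)⟩ : Zc (U n R) _ n) = ⟨z p, hzc p⟩ + ⟨z q, hzc q⟩ := by
          refine Subtype.ext (funext fun i => Λ_injective n R d i ?_)
          show Λ n R d i (z (p + q) i) = Λ n R d i (z p i + z q i)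
          rw [map_add, hz, hz, hz, ← smul_add, ← map_add]
          rfl
        rw [hadd, map_add, map_add]
        rfl
      map_smul' := fun r p => by
        apply e.injective
        rw [AddEquiv.apply_symm_apply]
        refine (hΦn (Coh.smulAb (Twist.twist 𝒜 d) (ProjCoh.projφ 𝒜 r)) ⟨_, hzc p⟩ _ ?_).trans ?_
        · refine funext fun i => Λ_injective n R d i ?_
          show Λ n R d i (z (r • p) i) = Λ n R d i ((Coh.smulAb _ _).hom.app _ (z p i))
          rw [Λ_smulAb, hz, hz, mul_smul_comm]
          congr 1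
          exact topX_smul n R r p.1
        · show _ = e (Sheaf.H.map (Coh.smulAb (Twist.twist 𝒜 d) (ProjCoh.projφ 𝒜 r)) n (e.symm (Φ _)))
          rw [show e = HEquiv (Coh.toAb (Twist.twist 𝒜 d)) n from rfl, HEquiv_map,
            AddEquiv.apply_symm_apply] }
  have hginj : Function.Injective g := by
    refine (injective_iff_map_eq_zero g).2 fun p hp => ?_
    have h1 : Φ ⟨z p, hzc p⟩ = 0 := e.symm.injective (hp.trans (map_zero e.symm).symm)
    have h2 := negP_of_mem_Bc n R ((hΦk _).1 h1)
    rw [hzid, negP_of_all_neg n R fun a ha => (support_topX n R p ha).2] at h2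
    exact Subtype.ext (topX_injective n R (h2.trans (map_zero _).symm))
  have hgsurj : Function.Surjective g := fun x => by
    obtain ⟨c, hc⟩ := hΦs (e x)
    obtain ⟨p, hp⟩ := exists_topX n R (k := k) (negP n R (Λ n R d _ (c.1 (idT n)))) fun a ha => by
      simp only [negP, AddMonoidHom.coe_mk, ZeroHom.coe_mk, AddMonoidAlgebra.coeff_ofCoeff,
        Finsupp.support_filter, Finset.mem_filter] at ha
      exact ⟨(goodD_Λ n R d _ _ a ha.1).1, ha.2⟩
    refine ⟨p, e.injective ?_⟩
    show e (e.symm (Φ ⟨z p, hzc p⟩)) = e x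
    rw [AddEquiv.apply_symm_apply, ← hc]
    have hw : cdiff (U n R) _ n (z p - c.1) = 0 := by
      rw [map_sub, hzc, show cdiff (U n R) _ n c.1 = 0 from c.2, sub_zero]
    have h0 : negP n R (Λ n R d _ ((z p - c.1) (idT n))) = 0 := by
      rw [Pi.sub_apply, map_sub, map_sub, hzid,
        negP_of_all_neg n R fun a ha => (support_topX n R p ha).2, hp, sub_self]
    have h3 : Φ (⟨z p, hzc p⟩ - c) = 0 :=
      (hΦk _).2 (mem_Bc_of_negP n R (z p - c.1) hw (negP_eq_zero_all n R d _ hw h0))
    exact sub_eq_zero.1 ((map_sub Φ _ _).symm.trans h3)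
  exact ⟨(LinearEquiv.ofBijective g ⟨hginj, hgsurj⟩).symm⟩

end Groth.Agent.ProjTwist
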