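import Groth.Agent.ProjTwist.Vanish
import Groth.Agent.ProjCoh.PSData

/-!
# Global sections of twisting sheaves on projective space
-/

set_option autoImplicit false

universe u

open CategoryTheory Opposite TopologicalSpace AlgebraicGeometry
open HomogeneousLocalization
open Groth.Agent.CohBase Groth.Agent.CohBase.PS

noncomputable section

namespace Groth.Agent.ProjTwist

variable (n : ℕ) (R : Type u) [CommRing R]

local notation "Poly" => MvPolynomial (Fin (n + 1)) R
local notation "𝒜" => CohB1.polyGrading n R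

lemma projφ_eq : ProjCoh.projφ 𝒜 = Coh.toGlobal (CohB1.ProjSpace.toSpec n R) := rfl

/-- Constants expand to constants. -/
theorem secHom_projφ {V : (Proj 𝒜).Opens} (h : cell n R ≤ V) (r : R) :
    secHom n R h ((Proj 𝒜).presheaf.map (homOfLE (le_top : V ≤ ⊤)).op (ProjCoh.projφ 𝒜 r)) =
      AddMonoidAlgebra.single 0 r := by
  rw [secHom_res]
  have h1 : secHom n R (le_refl (cell n R))
      ((Proj 𝒜).presheaf.map (homOfLE (le_top : cell n R ≤ ⊤)).op (ProjCoh.projφ 𝒜 r)) =
      secHom n R (h.trans le_top) (ProjCoh.projφ 𝒜 r) := secHom_res n R _ _ _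
  rw [← h1]
  have h2 := ProjCoh.φV_projφ 𝒜 (prodX_mem n R Finset.univ) (by simp) r
  refine (congrArg (secHom n R (le_refl (cell n R))) h2).trans ?_
  refine (secHom_awayToSection n R Finset.univ (ProjCoh.awayConst 𝒜 _ r)).trans ?_
  rw [awayHom_apply]
  show locMap n R Finset.univ (algebraMap Poly _ (MvPolynomial.C r)) = _
  rw [locMap, IsLocalization.Away.lift_eq, ← MvPolynomial.monomial_zero', toLaurent_monomial, map_zero]

/-- The action of scalars on expansions of global sections. -/
theorem L_projφ_smul (d : ℤ) (r : R) (f : Γ(Twist.twist 𝒜 d, ⊤)) :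
    L n R d (le_top : cell n R ≤ ⊤) (ProjCoh.projφ 𝒜 r • f) =
      r • L n R d (le_top : cell n R ≤ ⊤) f := by
  rw [L_smul]
  have h := secHom_projφ n R (V := ⊤) le_top r
  rw [secHom_res] at h
  rw [h]
  apply AddMonoidAlgebra.coeff_injective
  ext e
  simp [AddMonoidAlgebra.coeff_single_mul_apply]

/-- A homogeneous polynomial as a global section. -/
def polySec {d : ℕ} (p : 𝒜 d) : Γ(Twist.twist 𝒜 (d : ℤ), ⊤) := Twist.globalOf 𝒜 p

theorem L_polySec {d : ℕ} (p : 𝒜 d) :
    L n R (d : ℤ) (le_top : cell n R ≤ ⊤) (polySec n R p) = toLaurent n R p.1 := by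
  let s : 𝒜 d := xPow n R 0 d
  let N := d
  have hrest : MvPolynomial.X 0 * prodX n R (Finset.univ.erase 0) = prodX n R Finset.univ :=
    Finset.mul_prod_erase _ _ (Finset.mem_univ 0)
  let s' : 𝒜 (d * n) := ⟨prodX n R (Finset.univ.erase 0) ^ d, by
    have := SetLike.pow_mem_graded d (prodX_mem n R (Finset.univ.erase (0 : Fin (n + 1))))
    simpa using this⟩
  have hs : s.1 * s'.1 = prodX n R Finset.univ ^ d := by
    show MvPolynomial.X 0 ^ d * _ = _
    rw [← hrest, mul_pow]
  have hV : cell n R ≤ Proj.basicOpen 𝒜 s.1 := le_basicOpen_xPow n R (cell_le_U n R 0) d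
  have h := secHom_fracSec n R p s s' hs (by ring) hV
  show cellL n R d 0 _ = _
  rw [cellL_apply]
  have e : untwist n R (d : ℤ) 0 (cell_le_U n R 0)
      ((Twist.twist 𝒜 (d : ℤ)).presheaf.map (homOfLE le_top).op (polySec n R p)) =
      fracSec 𝒜 p s hV := by
    apply (unitEquiv (cell n R)).injective
    rw [unitEquiv_untwist]
    refine sect_ext fun x => ?_
    rw [valAt_mulFrac, valAt_unitEquiv]
    show _ * Localization.mk p.1 ⟨(1 : Poly), _⟩ = HomogeneousLocalization.val (HomogeneousLocalization.mk _)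
    rw [HomogeneousLocalization.val_mk, Localization.mk_mul]
    refine Localization.mk_eq_mk_iff.2 (Localization.r_iff_exists.2 ⟨1, ?_⟩)
    simp only [s, xPow, Int.toNat_natCast, Int.toNat_neg_natCast, Submonoid.coe_mul, pow_zero,
      OneMemClass.coe_one]
    ring
  refine (congrArg (fun c => mon n R (Finsupp.single 0 (d : ℤ)) * secHom n R le_rfl c) e).trans ?_
  rw [← h, mul_comm]
  congr 1
  exact (toLaurent_xPow n R 0 d).symm

/-- Expansions of global sections are homogeneous polynomials. -/
theorem exists_poly (d : ℕ) (f : Γ(Twist.twist 𝒜 (d : ℤ), ⊤)) :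
    ∃ p : 𝒜 d, toLaurent n R p.1 = L n R (d : ℤ) (le_top : cell n R ≤ ⊤) f := by
  classical
  set x := L n R (d : ℤ) (le_top : cell n R ≤ ⊤) f with hx
  have hgood : ∀ e ∈ x.coeff.support, (∑ a, e a) = (d : ℤ) ∧ ∀ a, 0 ≤ e a := by
    intro e he
    have h0 := goodD_L_top n R d 0 f e he
    refine ⟨h0.1, fun a => ?_⟩
    by_cases ha : a = 0
    · subst ha
      by_contra hneg
      push_neg at hneg
      rcases Nat.eq_zero_or_pos n with hn | hn
      · subst hn
        have := h0.1
        simp at this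
        omega
      · haveI : Nontrivial (Fin (n + 1)) := Fin.nontrivial_iff_two_le.2 (by omega)
        obtain ⟨k, hk⟩ := exists_ne (0 : Fin (n + 1))
        have := (goodD_L_top n R d k f e he).2 0 (by simpa using hk.symm)
        omega
    · exact h0.2 a (by simpa using ha)
  let dd : (Fin (n + 1) →₀ ℤ) → (Fin (n + 1) →₀ ℕ) := fun e =>
    Finsupp.equivFunOnFinite.symm fun a => (e a).toNat
  have hdd : ∀ e ∈ x.coeff.support, expInt n (dd e) = e := fun e he => by
    ext a
    rw [expInt_apply]
    simpa [dd] using Int.toNat_of_nonneg ((hgood e he).2 a)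
  refine ⟨⟨∑ e ∈ x.coeff.support, MvPolynomial.monomial (dd e) (x.coeff e),
    Submodule.sum_mem _ fun e he => MvPolynomial.isHomogeneous_monomial _ ?_⟩, ?_⟩
  · rw [Finsupp.degree_eq_sum]
    have h1 : ∀ a, ((dd e a : ℕ) : ℤ) = e a := fun a => by
      rw [← expInt_apply n (dd e) a, hdd e he]
    have h2 : (∑ a, ((dd e a : ℕ) : ℤ)) = (d : ℤ) := by simp only [h1]; exact (hgood e he).1
    exact_mod_cast h2
  · rw [map_sum]
    rw [Finset.sum_congr rfl fun e he => by rw [toLaurent_monomial, hdd e he]]
    exact AddMonoidAlgebra.sum_coeff_single x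

theorem polySec_bijective (d : ℕ) : Function.Bijective (polySec n R (d := d)) := by
  refine ⟨fun p q h => Subtype.ext (toLaurent_injective n R ?_), fun f => ?_⟩
  · rw [← L_polySec, ← L_polySec, h]
  · obtain ⟨p, hp⟩ := exists_poly n R d f
    exact ⟨p, L_top_injective n R d ((L_polySec n R p).trans hp)⟩

theorem polySec_smul (d : ℕ) (r : R) (p : 𝒜 d) :
    polySec n R (r • p) = ProjCoh.projφ 𝒜 r • polySec n R p := by
  apply L_top_injective n R d
  rw [L_projφ_smul, L_polySec, L_polySec]
  show toLaurent n R (r • p.1) = _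
  rw [MvPolynomial.smul_eq_C_mul, map_mul, ← MvPolynomial.monomial_zero', toLaurent_monomial, map_zero]
  apply AddMonoidAlgebra.coeff_injective
  ext e
  simp [AddMonoidAlgebra.coeff_single_mul_apply]

/-- Global sections of `O(d)` are the forms of degree `d`. -/
theorem nonempty_H0 (d : ℕ) :
    Nonempty (Coh.HH (CohB1.ProjSpace n R) (Twist.twistProjSpace n R (d : ℤ)) 0 ≃ₗ[R] ↥(𝒜 d)) := by
  let h : Γ(Twist.twist 𝒜 (d : ℤ), ⊤) ≃+ Coh.HH (Proj 𝒜) (Twist.twist 𝒜 (d : ℤ)) 0 :=
    RpushLib.h0Γ _
  have hadd : ∀ p q : 𝒜 d, polySec n R (p + q) = polySec n R p + polySec n R q := fun p q => by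
    apply L_top_injective n R d
    rw [map_add, L_polySec, L_polySec, L_polySec]
    exact map_add _ _ _
  let g : ↥(𝒜 d) →ₗ[R] Coh.HH (CohB1.ProjSpace n R) (Twist.twistProjSpace n R (d : ℤ)) 0 :=
    { toFun := fun p => h (polySec n R p)
      map_add' := fun p q => by rw [hadd, map_add]; rfl
      map_smul' := fun r p => by
        rw [polySec_smul]
        exact RpushLib.h0Γ_smul _ _ _ }
  exact ⟨(LinearEquiv.ofBijective g (h.bijective.comp (polySec_bijective n R d))).symm⟩

/-- The constants are all the global functions. -/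
theorem projφ_bijective : Function.Bijective (ProjCoh.projφ 𝒜) := by
  have hL : ∀ c : Γ(Proj 𝒜, ⊤), L n R 0 (le_top : cell n R ≤ ⊤) (unitEquiv ⊤ c) =
      secHom n R le_top c := fun c => by
    show cellL n R 0 0 ((Twist.twist 𝒜 0).presheaf.map (homOfLE le_top).op (unitEquiv ⊤ c)) = _
    rw [cellL_apply, Finsupp.single_zero, mon_zero, one_mul]
    refine (congrArg (secHom n R (le_refl (cell n R))) ?_).trans (secHom_res n R le_top le_rfl c)
    apply (unitEquiv (cell n R)).injective
    rw [unitEquiv_untwist, unitEquiv_res]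
    refine sect_ext fun x => ?_
    rw [valAt_mulFrac]
    refine (congrArg (· * _) ?_).trans (one_mul _)
    refine Eq.trans ?_ Localization.mk_one
    congr 1
  have hinj : Function.Injective (secHom n R (le_top : cell n R ≤ ⊤)) := fun a b h => by
    apply (unitEquiv ⊤).injective
    exact L_top_injective n R 0 (by rw [hL, hL, h])
  have hφ : ∀ r, secHom n R le_top (ProjCoh.projφ 𝒜 r) = AddMonoidAlgebra.single 0 r := fun r => by
    have h := secHom_projφ n R (V := ⊤) le_top r
    rwa [secHom_res] at h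
  refine ⟨fun r r' h => ?_, fun c => ?_⟩
  · have := congrArg (fun x : Laurent n R => x.coeff 0) ((hφ r).symm.trans ((congrArg _ h).trans (hφ r')))
    simpa using this
  · obtain ⟨p, hp⟩ := exists_poly n R 0 (unitEquiv ⊤ c)
    refine ⟨p.1.coeff 0, hinj ?_⟩
    rw [hφ, ← hL]
    refine Eq.trans ?_ hp
    have hp0 : p.1 = MvPolynomial.C (p.1.coeff 0) := by
      have := MvPolynomial.homogeneousComponent_of_mem (m := 0) p.2
      rw [if_pos rfl, MvPolynomial.homogeneousComponent_zero] at this
      exact this.symm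
    conv_rhs => rw [hp0, ← MvPolynomial.monomial_zero', toLaurent_monomial, map_zero]

end Groth.Agent.ProjTwist
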