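import Groth.Agent.ProjTwist.Basic
import Groth.Agent.CohBase.ProjSpace

/-!
# Sections of twisting sheaves on projective space as Laurent polynomials
-/

set_option autoImplicit false

universe u

open CategoryTheory Opposite TopologicalSpace AlgebraicGeometry
open HomogeneousLocalization
open Groth.Agent.CohBase Groth.Agent.CohBase.PS

noncomputable section

namespace Groth.Agent.ProjTwist

section

variable {R A : Type u} [CommRing R] [CommRing A] [Algebra R A] {𝒜 : ℕ → Submodule R A} [GradedAlgebra 𝒜]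

/-- Functions as sections of `O(0)`. -/
def unitEquiv (V : (Proj 𝒜).Opens) : Γ(Proj 𝒜, V) ≃+ Γ(Twist.twist 𝒜 0, V) :=
  AddEquiv.ofBijective (M := Γ(Proj 𝒜, V))
    ({ toFun := fun c => (ProjCoh.unitToTwist 𝒜).app V c
       map_zero' := map_zero ((ProjCoh.unitToTwist 𝒜).app V).hom
       map_add' := fun a b => map_add ((ProjCoh.unitToTwist 𝒜).app V).hom a b } :
      Γ(Proj 𝒜, V) →+ Γ(Twist.twist 𝒜 0, V))
    (ProjCoh.unitToTwist_bijective V)

lemma valAt_unitEquiv {V : (Proj 𝒜).Opens} (c : Γ(Proj 𝒜, V)) (x : V) :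
    valAt (unitEquiv V c) x = ((c : Twist.O (𝒜 := 𝒜) (op V)).1 x).val := rfl

lemma unitEquiv_res {V W : (Proj 𝒜).Opens} (hW : W ≤ V) (c : Γ(Proj 𝒜, V)) :
    unitEquiv W ((Proj 𝒜).presheaf.map (homOfLE hW).op c) =
      (Twist.twist 𝒜 0).presheaf.map (homOfLE hW).op (unitEquiv V c) := rfl

lemma unitEquiv_symm_res {V W : (Proj 𝒜).Opens} (hW : W ≤ V) (f : Γ(Twist.twist 𝒜 0, V)) :
    (unitEquiv W).symm ((Twist.twist 𝒜 0).presheaf.map (homOfLE hW).op f) =
      (Proj 𝒜).presheaf.map (homOfLE hW).op ((unitEquiv V).symm f) := by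
  apply (unitEquiv W).injective
  rw [AddEquiv.apply_symm_apply, unitEquiv_res, AddEquiv.apply_symm_apply]

lemma unitEquiv_mul {V : (Proj 𝒜).Opens} (c c' : Γ(Proj 𝒜, V)) :
    unitEquiv V (c * c') = c • unitEquiv V c' :=
  sect_ext fun x => by
    rw [valAt_smul, valAt_unitEquiv, valAt_unitEquiv]
    exact val_mul _ _

end

variable (n : ℕ) (R : Type u) [CommRing R]

local notation "Poly" => MvPolynomial (Fin (n + 1)) R
local notation "𝒜" => CohB1.polyGrading n R

/-- A variable as a form of degree one. -/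
def xPow (k : Fin (n + 1)) (p : ℕ) : 𝒜 p :=
  ⟨MvPolynomial.X k ^ p, by simpa using (MvPolynomial.isHomogeneous_X R k).pow p⟩

/-- The Laurent monomial. -/
def mon (e : Fin (n + 1) →₀ ℤ) : Laurent n R := AddMonoidAlgebra.single e 1

lemma mon_add (e e' : Fin (n + 1) →₀ ℤ) : mon n R (e + e') = mon n R e * mon n R e' := by
  rw [mon, mon, mon, AddMonoidAlgebra.single_mul_single, one_mul]

lemma mon_zero : mon n R 0 = 1 := rfl

lemma isUnit_mon (e : Fin (n + 1) →₀ ℤ) : IsUnit (mon n R e) :=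
  IsUnit.of_mul_eq_one (mon n R (-e)) (by rw [← mon_add, add_neg_cancel, mon_zero])

lemma toLaurent_xPow (k : Fin (n + 1)) (p : ℕ) :
    toLaurent n R (xPow n R k p).1 = mon n R (Finsupp.single k (p : ℤ)) := by
  show toLaurent n R (MvPolynomial.X k ^ p) = _
  rw [MvPolynomial.X_pow_eq_monomial, toLaurent_monomial, mon]
  congr 1
  ext a
  rw [expInt_apply, Finsupp.single_apply, Finsupp.single_apply]
  split_ifs <;> simp

/-- The cell where no variable vanishes. -/
abbrev cell : (Proj 𝒜).Opens := Proj.basicOpen 𝒜 (prodX n R Finset.univ)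

lemma le_basicOpen_xPow {k : Fin (n + 1)} {V : (Proj 𝒜).Opens}
    (hk : V ≤ Proj.basicOpen 𝒜 (MvPolynomial.X k)) (p : ℕ) :
    V ≤ Proj.basicOpen 𝒜 (xPow n R k p).1 := fun x hx hm =>
  hk hx (x.isPrime.mem_of_pow_mem p hm)

lemma cell_le_U (k : Fin (n + 1)) : cell n R ≤ Proj.basicOpen 𝒜 (MvPolynomial.X k) := by
  refine Proj.basicOpen_mono 𝒜 _ _ ⟨prodX n R (Finset.univ.erase k), ?_⟩
  exact (Finset.mul_prod_erase _ _ (Finset.mem_univ k)).symm

/-- Laurent expansion of a fraction of degree zero on the cell. -/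
theorem secHom_fracSec {i i' N : ℕ} (a s : 𝒜 i) (s' : 𝒜 i')
    (hs : s.1 * s'.1 = prodX n R Finset.univ ^ N) (hN : i + i' = N * (n + 1))
    (hV : cell n R ≤ Proj.basicOpen 𝒜 s.1) :
    secHom n R (le_refl (cell n R)) (fracSec 𝒜 a s hV) * toLaurent n R s.1 = toLaurent n R a.1 := by
  have hd : a.1 * s'.1 ∈ 𝒜 (N • (Finset.univ : Finset (Fin (n + 1))).card) := by
    rw [smul_eq_mul, Finset.card_univ, Fintype.card_fin, ← hN]
    exact SetLike.mul_mem_graded a.2 s'.2
  let z : Away 𝒜 (prodX n R Finset.univ) := Away.mk 𝒜 (prodX_mem n R Finset.univ) N _ hd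
  have hz : fracSec 𝒜 a s hV = Proj.awayToSection 𝒜 (prodX n R Finset.univ) z := by
    refine Subtype.ext (funext fun x => HomogeneousLocalization.val_injective _ ?_)
    show HomogeneousLocalization.val (HomogeneousLocalization.mk _) =
      HomogeneousLocalization.val (HomogeneousLocalization.mk _)
    simp only [HomogeneousLocalization.val_mk]
    refine Localization.mk_eq_mk_iff.2 (Localization.r_iff_exists.2 ⟨1, ?_⟩)
    show 1 * ((prodX n R Finset.univ) ^ N * a.1) = 1 * (s.1 * (a.1 * s'.1))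
    rw [← hs]
    ring
  have hu : IsUnit (toLaurent n R s'.1) := by
    refine isUnit_of_mul_isUnit_right (x := toLaurent n R s.1) ?_
    rw [← map_mul, hs, map_pow]
    exact (isUnit_toLaurent_prodX n R _).pow N
  refine hu.mul_right_cancel ?_
  rw [mul_assoc, ← map_mul, hs, hz, secHom_awayToSection n R Finset.univ z, awayHom_mk,
    ← map_mul (toLaurent n R) a.1]
  rw [mul_comm, ← mul_assoc]
  have hu2 : toLaurent n R (prodX n R Finset.univ ^ N) *
      AddMonoidAlgebra.single (-(N • expInt n (expS n Finset.univ))) (1 : R) = 1 := by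
    rw [prodX_eq, MvPolynomial.monomial_pow, one_pow, toLaurent_monomial, map_nsmul,
      AddMonoidAlgebra.single_mul_single, add_neg_cancel, one_mul]
    rfl
  rw [hu2, one_mul]

lemma deg_pq (d : ℤ) : (((-d).toNat : ℕ) : ℤ) + d = ((d.toNat : ℕ) : ℤ) + 0 := by omega

/-- Multiplication into `O(0)` by a power of a variable. -/
def untwist (d : ℤ) (k : Fin (n + 1)) {V : (Proj 𝒜).Opens}
    (hk : V ≤ Proj.basicOpen 𝒜 (MvPolynomial.X k)) : Γ(Twist.twist 𝒜 d, V) →+ Γ(Proj 𝒜, V) :=
  (unitEquiv V).symm.toAddMonoidHom.comp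
    (mulFrac 𝒜 (xPow n R k (-d).toNat) (xPow n R k d.toNat) d 0 (deg_pq d) (le_basicOpen_xPow n R hk _))

lemma unitEquiv_untwist (d : ℤ) (k : Fin (n + 1)) {V : (Proj 𝒜).Opens}
    (hk : V ≤ Proj.basicOpen 𝒜 (MvPolynomial.X k)) (f : Γ(Twist.twist 𝒜 d, V)) :
    unitEquiv V (untwist n R d k hk f) =
      mulFrac 𝒜 (xPow n R k (-d).toNat) (xPow n R k d.toNat) d 0 (deg_pq d) (le_basicOpen_xPow n R hk _) f :=
  AddEquiv.apply_symm_apply _ _

lemma untwist_bijective (d : ℤ) (k : Fin (n + 1)) {V : (Proj 𝒜).Opens}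
    (hk : V ≤ Proj.basicOpen 𝒜 (MvPolynomial.X k)) : Function.Bijective (untwist n R d k hk) :=
  (unitEquiv V).symm.bijective.comp
    (mulFrac_bijective _ _ _ _ _ _ (le_basicOpen_xPow n R hk _))

lemma untwist_res (d : ℤ) (k : Fin (n + 1)) {V W : (Proj 𝒜).Opens}
    (hk : V ≤ Proj.basicOpen 𝒜 (MvPolynomial.X k)) (hW : W ≤ V) (f : Γ(Twist.twist 𝒜 d, V)) :
    untwist n R d k (hW.trans hk) ((Twist.twist 𝒜 d).presheaf.map (homOfLE hW).op f) =
      (Proj 𝒜).presheaf.map (homOfLE hW).op (untwist n R d k hk f) := by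
  apply (unitEquiv W).injective
  rw [unitEquiv_untwist, unitEquiv_res, unitEquiv_untwist]
  rfl

lemma untwist_smul (d : ℤ) (k : Fin (n + 1)) {V : (Proj 𝒜).Opens}
    (hk : V ≤ Proj.basicOpen 𝒜 (MvPolynomial.X k)) (c : Γ(Proj 𝒜, V)) (f : Γ(Twist.twist 𝒜 d, V)) :
    untwist n R d k hk (c • f) = c * untwist n R d k hk f := by
  apply (unitEquiv V).injective
  rw [unitEquiv_untwist, unitEquiv_mul, unitEquiv_untwist]
  refine sect_ext fun x => ?_
  rw [valAt_mulFrac, valAt_smul, valAt_smul, valAt_mulFrac, mul_left_comm]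

/-- Sections on the cell as Laurent polynomials. -/
def cellL (d : ℤ) (k : Fin (n + 1)) : Γ(Twist.twist 𝒜 d, cell n R) →+ Laurent n R :=
  (AddMonoidHom.mulLeft (mon n R (Finsupp.single k d))).comp
    ((secHom n R (le_refl (cell n R))).toAddMonoidHom.comp (untwist n R d k (cell_le_U n R k)))

lemma cellL_apply (d : ℤ) (k : Fin (n + 1)) (f : Γ(Twist.twist 𝒜 d, cell n R)) :
    cellL n R d k f = mon n R (Finsupp.single k d) *
      secHom n R (le_refl (cell n R)) (untwist n R d k (cell_le_U n R k) f) := rfl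

theorem cellL_indep (d : ℤ) (k l : Fin (n + 1)) (f : Γ(Twist.twist 𝒜 d, cell n R)) :
    cellL n R d k f = cellL n R d l f := by
  classical
  let p := (-d).toNat
  let q := d.toNat
  let a : 𝒜 (p + q) := ⟨(xPow n R k p).1 * (xPow n R l q).1,
    SetLike.mul_mem_graded (xPow n R k p).2 (xPow n R l q).2⟩
  let s : 𝒜 (p + q) := ⟨(xPow n R k q).1 * (xPow n R l p).1, by
    rw [add_comm p q]
    exact SetLike.mul_mem_graded (xPow n R k q).2 (xPow n R l p).2⟩
  have hrest : ∀ k : Fin (n + 1),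
      MvPolynomial.X k * prodX n R (Finset.univ.erase k) = prodX n R Finset.univ := fun k =>
    Finset.mul_prod_erase _ _ (Finset.mem_univ k)
  have hmem : ∀ k : Fin (n + 1), prodX n R (Finset.univ.erase k) ∈ 𝒜 n := fun k => by
    simpa using prodX_mem n R (Finset.univ.erase k)
  let s' : 𝒜 (q * n + p * n) :=
    ⟨prodX n R (Finset.univ.erase k) ^ q * prodX n R (Finset.univ.erase l) ^ p,
      SetLike.mul_mem_graded
        (by simpa using SetLike.pow_mem_graded q (hmem k))
        (by simpa using SetLike.pow_mem_graded p (hmem l))⟩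
  have hs : s.1 * s'.1 = prodX n R Finset.univ ^ (q + p) := by
    show MvPolynomial.X k ^ q * MvPolynomial.X l ^ p * (_ * _) = _
    rw [pow_add]
    conv_rhs => arg 1; rw [← hrest k, mul_pow]
    conv_rhs => arg 2; rw [← hrest l, mul_pow]
    ring
  have hV : cell n R ≤ Proj.basicOpen 𝒜 s.1 := fun x hx hm =>
    (x.isPrime.mem_or_mem hm).elim (le_basicOpen_xPow n R (cell_le_U n R k) _ hx)
      (le_basicOpen_xPow n R (cell_le_U n R l) _ hx)
  have e : untwist n R d k (cell_le_U n R k) f =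
      fracSec 𝒜 a s hV * untwist n R d l (cell_le_U n R l) f := by
    apply (unitEquiv (cell n R)).injective
    rw [unitEquiv_untwist, unitEquiv_mul, unitEquiv_untwist]
    refine sect_ext fun x => ?_
    rw [valAt_fracSec_smul, valAt_mulFrac, valAt_mulFrac, ← mul_assoc, Localization.mk_mul]
    congr 1
    refine Localization.mk_eq_mk_iff.2 (Localization.r_iff_exists.2 ⟨1, ?_⟩)
    show 1 * ((s.1 * (xPow n R l q).1) * (xPow n R k p).1) =
      1 * ((xPow n R k q).1 * (a.1 * (xPow n R l p).1))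
    simp only [a, s]
    ring
  have h := secHom_fracSec n R a s s' hs (by ring) hV
  have hT : toLaurent n R a.1 = mon n R (Finsupp.single k (p : ℤ) + Finsupp.single l (q : ℤ)) ∧
      toLaurent n R s.1 = mon n R (Finsupp.single k (q : ℤ) + Finsupp.single l (p : ℤ)) := by
    constructor <;> simp only [a, s, map_mul, toLaurent_xPow, mon_add]
  rw [hT.1, hT.2] at h
  rw [cellL_apply, cellL_apply, e, map_mul]
  refine (isUnit_mon n R (Finsupp.single k (q : ℤ) + Finsupp.single l (p : ℤ))).mul_right_cancel ?_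
  rw [mul_assoc, mul_right_comm (secHom n R (le_refl (cell n R)) (fracSec 𝒜 a s hV)), h, ← mul_assoc,
    ← mon_add, mul_right_comm, ← mon_add]
  congr 2
  have hd : d = (q : ℤ) - p := by omega
  rw [show Finsupp.single k d = Finsupp.single k (q : ℤ) - Finsupp.single k (p : ℤ) by
      rw [← Finsupp.single_sub, hd],
    show Finsupp.single l d = Finsupp.single l (q : ℤ) - Finsupp.single l (p : ℤ) by
      rw [← Finsupp.single_sub, hd]]
  abel

/-- Sections over an open containing the cell as Laurent polynomials. -/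
def L (d : ℤ) {V : (Proj 𝒜).Opens} (h : cell n R ≤ V) : Γ(Twist.twist 𝒜 d, V) →+ Laurent n R :=
  (cellL n R d 0).comp ((Twist.twist 𝒜 d).presheaf.map (homOfLE h).op).hom

lemma L_res (d : ℤ) {V W : (Proj 𝒜).Opens} (hW : W ≤ V) (h : cell n R ≤ W) (f : Γ(Twist.twist 𝒜 d, V)) :
    L n R d h ((Twist.twist 𝒜 d).presheaf.map (homOfLE hW).op f) = L n R d (h.trans hW) f := rfl

lemma L_eq (d : ℤ) (k : Fin (n + 1)) {V : (Proj 𝒜).Opens} (h : cell n R ≤ V)
    (hk : V ≤ Proj.basicOpen 𝒜 (MvPolynomial.X k)) (f : Γ(Twist.twist 𝒜 d, V)) :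
    L n R d h f = mon n R (Finsupp.single k d) * secHom n R h (untwist n R d k hk f) := by
  show cellL n R d 0 ((Twist.twist 𝒜 d).presheaf.map (homOfLE h).op f) = _
  rw [cellL_indep n R d 0 k, cellL_apply]
  congr 1
  refine (congrArg (secHom n R (le_refl (cell n R))) (untwist_res n R d k hk h f)).trans ?_
  exact secHom_res n R h le_rfl _

lemma L_smul (d : ℤ) {V : (Proj 𝒜).Opens} (h : cell n R ≤ V) (c : Γ(Proj 𝒜, V))
    (f : Γ(Twist.twist 𝒜 d, V)) : L n R d h (c • f) = secHom n R h c * L n R d h f := by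
  show cellL n R d 0 ((Twist.twist 𝒜 d).presheaf.map (homOfLE h).op (c • f)) =
    _ * cellL n R d 0 ((Twist.twist 𝒜 d).presheaf.map (homOfLE h).op f)
  rw [Scheme.Modules.map_smul, cellL_apply, cellL_apply, untwist_smul, map_mul, secHom_res,
    mul_left_comm]

/-- The condition on exponents of sections of `O(d)`. -/
def GoodD (d : ℤ) (S : Finset (Fin (n + 1))) (x : Laurent n R) : Prop :=
  ∀ e ∈ x.coeff.support, (∑ a, e a) = d ∧ ∀ a, a ∉ S → 0 ≤ e a

lemma mon_mul_coeff (e₀ e : Fin (n + 1) →₀ ℤ) (x : Laurent n R) :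
    (mon n R e₀ * x).coeff e = x.coeff (-e₀ + e) := by
  simp [mon, AddMonoidAlgebra.coeff_single_mul_apply]

lemma goodD_mon_mul (d d' : ℤ) {S : Finset (Fin (n + 1))} {k : Fin (n + 1)} (hk : k ∈ S)
    {x : Laurent n R} (hx : GoodD n R d S x) :
    GoodD n R (d' + d) S (mon n R (Finsupp.single k d') * x) := by
  intro e he
  rw [Finsupp.mem_support_iff, mon_mul_coeff, ← Finsupp.mem_support_iff] at he
  obtain ⟨h1, h2⟩ := hx _ he
  constructor
  · simp only [Finsupp.coe_add, Pi.add_apply, Finsupp.neg_apply, Finset.sum_add_distrib,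
      Finset.sum_neg_distrib, Finsupp.univ_sum_single_apply'] at h1
    simp at h1
    omega
  · intro a ha
    have := h2 a ha
    have hak : k ≠ a := fun h => ha (h ▸ hk)
    simpa [Finsupp.single_apply, hak] using this

theorem goodD_L {m : ℕ} (d : ℤ) (i : Fin (m + 1) → ULift.{u} (Fin (n + 1)))
    (f : Γ(Twist.twist 𝒜 d, inter (U n R) i)) :
    GoodD n R d (img n i) (L n R d (univ_le_inter n R i) f) := by
  have hk : inter (U n R) i ≤ Proj.basicOpen 𝒜 (MvPolynomial.X (i 0).down) := fun x hx =>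
    ((mem_inter_iff _).1 hx) 0
  rw [L_eq n R d (i 0).down _ hk]
  have := goodD_mon_mul n R 0 d (S := img n i) (k := (i 0).down)
    (Finset.mem_image_of_mem _ (Finset.mem_univ _)) (good_secHom n R i (untwist n R d _ hk f))
  rwa [add_zero] at this

theorem L_injective {m : ℕ} (d : ℤ) (i : Fin (m + 1) → ULift.{u} (Fin (n + 1))) :
    Function.Injective (L n R d (univ_le_inter n R i)) := by
  intro f g h
  have hk : inter (U n R) i ≤ Proj.basicOpen 𝒜 (MvPolynomial.X (i 0).down) := fun x hx =>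
    ((mem_inter_iff _).1 hx) 0
  rw [L_eq n R d (i 0).down _ hk, L_eq n R d (i 0).down _ hk] at h
  exact (untwist_bijective n R d _ hk).1 (secHom_injective n R i ((isUnit_mon n R _).mul_left_cancel h))

theorem exists_L {m : ℕ} (d : ℤ) (i : Fin (m + 1) → ULift.{u} (Fin (n + 1))) (x : Laurent n R)
    (hx : GoodD n R d (img n i) x) :
    ∃ f : Γ(Twist.twist 𝒜 d, inter (U n R) i), L n R d (univ_le_inter n R i) f = x := by
  have hk : inter (U n R) i ≤ Proj.basicOpen 𝒜 (MvPolynomial.X (i 0).down) := fun x hx =>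
    ((mem_inter_iff _).1 hx) 0
  let k := (i 0).down
  have h0 := goodD_mon_mul n R d (-d) (S := img n i) (k := k)
    (Finset.mem_image_of_mem _ (Finset.mem_univ _)) hx
  rw [neg_add_cancel] at h0
  obtain ⟨c, hc⟩ := exists_secHom n R i _ h0
  obtain ⟨f, hf⟩ := (untwist_bijective n R d k hk).2 c
  refine ⟨f, ?_⟩
  rw [L_eq n R d k _ hk, hf, hc, ← mul_assoc, ← mon_add, ← Finsupp.single_add, add_neg_cancel,
    Finsupp.single_zero, mon_zero, one_mul]

end Groth.Agent.ProjTwist
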